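import Groth.Agent.S1570
import Groth.Agent.BlowUpLib.Cartier
import Groth.Agent.FpqcDescent.IdealGlue

/-!
Effective Cartier ideals descend along flat surjective morphisms.
-/

set_option autoImplicit false
set_option backward.isDefEq.respectTransparency false
set_option backward.isDefEq.respectTransparency.types false
set_option linter.style.haveILetI false
set_option maxHeartbeats 1000000

universe u

open CategoryTheory CategoryTheory.Limits AlgebraicGeometry TopologicalSpace Opposite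

namespace Groth.Agent.W7CDiv

/-- Effective Cartier ideals descend. -/
theorem isEffCartierIdeal_of_comap {X Y : Scheme.{u}} [IsLocallyNoetherian X] (π : Y ⟶ X) [Flat π] [Surjective π]
    (𝓘 : X.IdealSheafData) (hK : BlowUp.IsEffCartierIdeal (𝓘.comap π)) : BlowUp.IsEffCartierIdeal 𝓘 := by
  classical
  refine Groth.Agent.S1570.result X 𝓘 fun x hx U hxU => ?_
  obtain ⟨y, rfl⟩ := π.surjective x
  obtain ⟨W₀, hyW₀, f₀, hf₀, hW₀⟩ := hK y
  obtain ⟨W, hW, hyW, hWle⟩ := exists_isAffineOpen_mem_and_subset (x := y)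
    (U := W₀.1 ⊓ π ⁻¹ᵁ U.1) ⟨hyW₀, hxU⟩
  have e : W ≤ π ⁻¹ᵁ U.1 := fun z hz => (hWle hz).2
  have e₀ : W ≤ W₀.1 := fun z hz => (hWle hz).1
  let gy := (Y.presheaf.germ W₀.1 y hyW₀)
  let gx := (X.presheaf.germ U.1 (π y) hxU)
  let φ := (π.stalkMap y).hom
  let J := (𝓘.ideal U).map gx.hom
  have hJ : J.map φ = Ideal.span {gy.hom f₀} := by
    have h1 : (𝓘.comap π).ideal ⟨W, hW⟩ = (𝓘.ideal U).map (π.appLE U.1 W e).hom :=
      Groth.Agent.FpqcDescent.ideal_comap_appLE 𝓘 π U ⟨W, hW⟩ e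
    have h2 := Scheme.IdealSheafData.map_ideal (𝓘.comap π) (U := ⟨W, hW⟩) (V := W₀) e₀
    rw [hW₀, Ideal.map_span, Set.image_singleton, h1] at h2
    have h3 := congrArg (Ideal.map (Y.presheaf.germ W y hyW).hom) h2
    rw [Ideal.map_span, Set.image_singleton, Ideal.map_map, ← CommRingCat.hom_comp] at h3
    rw [Ideal.map_map, ← CommRingCat.hom_comp]
    refine Eq.trans ?_ (h3.symm.trans ?_)
    · refine congrArg (fun ψ : Γ(X, U.1) ⟶ Y.presheaf.stalk y => Ideal.map ψ.hom (𝓘.ideal U)) ?_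
      rw [Scheme.Hom.germ_stalkMap, Scheme.Hom.appLE, Category.assoc, TopCat.Presheaf.germ_res]
    · exact congrArg (fun a => Ideal.span {a}) (TopCat.Presheaf.germ_res_apply _ (homOfLE e₀) y hyW f₀)
  have hflat : φ.Flat := Flat.stalkMap π y
  have hnzd : gy.hom f₀ ∈ nonZeroDivisors _ := by
    refine Groth.Agent.BlowUpLib.mem_nonZeroDivisors_map_of_flat gy ?_ hf₀
    letI := gy.hom.toAlgebra
    haveI := W₀.2.isLocalization_stalk ⟨y, hyW₀⟩
    exact IsLocalization.flat _ (W₀.2.primeIdealOf ⟨y, hyW₀⟩).asIdeal.primeCompl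
  obtain ⟨j, hj, c, hc, hcu⟩ : ∃ j ∈ J, ∃ c, c * gy.hom f₀ = φ j ∧ IsUnit c := by
    by_contra hcon
    push Not at hcon
    have hle : J.map φ ≤ IsLocalRing.maximalIdeal _ * Ideal.span {gy.hom f₀} := by
      refine Ideal.map_le_iff_le_comap.2 fun j hj => ?_
      have hm : φ j ∈ Ideal.span {gy.hom f₀} := hJ ▸ Ideal.mem_map_of_mem φ hj
      obtain ⟨c, hc⟩ := Ideal.mem_span_singleton'.1 hm
      rw [Ideal.mem_comap, ← hc]
      exact Ideal.mul_mem_mul (hcon j hj c hc) (Ideal.mem_span_singleton_self _)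
    rw [hJ, Ideal.span_singleton_le_iff_mem, mul_comm, Ideal.mem_span_singleton_mul] at hle
    obtain ⟨c, hc, hce⟩ := hle
    have h0 : gy.hom f₀ * (1 - c) = 0 := by rw [mul_sub, mul_one, hce, sub_self]
    have hu : IsUnit (1 - c) := IsLocalRing.isUnit_one_sub_self_of_mem_nonunits c hc
    exact nonZeroDivisors.ne_zero hnzd (hu.mul_left_eq_zero.1 h0)
  letI := φ.toAlgebra
  haveI : Module.Flat (X.presheaf.stalk (π y)) (Y.presheaf.stalk y) := hflat
  haveI : IsLocalHom (algebraMap (X.presheaf.stalk (π y))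
      (Y.presheaf.stalk y)) :=
    inferInstanceAs (IsLocalHom φ)
  haveI : Module.FaithfullyFlat (X.presheaf.stalk (π y))
      (Y.presheaf.stalk y) :=
    Module.FaithfullyFlat.of_flat_of_isLocalHom
  refine ⟨j, ?_, ?_⟩
  · rw [← isRegular_iff_mem_nonZeroDivisors, ← isLeftRegular_iff_isRegular]
    intro a b hab
    refine (FaithfulSMul.algebraMap_injective (X.presheaf.stalk (π y))
      (Y.presheaf.stalk y)) ?_
    have h := congrArg φ hab
    simp only [map_mul, ← hc] at h
    exact (isRegular_iff_mem_nonZeroDivisors.2 (Submonoid.mul_mem _ hcu.mem_nonZeroDivisors hnzd)).left h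
  · have hspan : J.map φ = (Ideal.span {j}).map φ := by
      rw [hJ, Ideal.map_span, Set.image_singleton, ← hc, Ideal.span_singleton_mul_left_unit hcu]
    exact ((Ideal.comap_map_eq_self_of_faithfullyFlat J).symm.trans
      (congrArg (Ideal.comap (algebraMap _ _)) hspan)).trans (Ideal.comap_map_eq_self_of_faithfullyFlat _)

end Groth.Agent.W7CDiv
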